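import Cfsg.Agent.H956.OZ.RankOne
import Cfsg.Agent.H730.OZ.Defs
import Cfsg.Agent.H732.VZ.Close
import Cfsg.Agent.H71.ReeOut
import Cfsg.Agent.ChevalleyStructure.Ree.Data
import Cfsg.Agent.Lib.Zsigmondy
import Cfsg.Agent.S1158
import Cfsg.Agent.S1159
import Cfsg.Agent.S1116
import Cfsg.Agent.Characters.Linear
import Cfsg.Prelude.Def_LieTwisted

/-!
# S4842, the small Ree groups (helper956)
-/

set_option autoImplicit false

namespace Cfsg.Agent.H956.OZ.Ree

open Cfsg Cfsg.Agent.LieRecognition.ReeAbs Cfsg.Agent.LieRecognition.ReeSylowThree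
open Cfsg.Agent.LieRecognition.ReeSplit Cfsg.Agent.H664.R1
open Cfsg.Agent.H730.OZ (OneZero Concl Row)

universe u

section abs

variable {K : Type*} [Field K] [Fintype K] {G : Type u} [Group G] {m : ℕ} {U : K → K → K → G} {h : Kˣ → G} {n : G}

/-- the split BN pair of rank one of the Ree groups -/
def spl (D : Data m U h n) : Split G where
  B := bSub D
  U := uSub D
  T := Cfsg.Agent.H71.ReeOut.hSub D
  w := n
  UB := uSub_le_bSub D
  TB := by
    rintro _ ⟨a, rfl⟩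
    exact h_mem_bSub D a
  nU := fun b hb u hu => conj_mem_uSub D hb hu
  dec := by
    rintro _ ⟨t, u, v, a, rfl⟩
    exact ⟨_, ⟨t, u, v, rfl⟩, _, ⟨a, rfl⟩, rfl⟩
  disj := by
    rintro _ ⟨t, u, v, rfl⟩ ⟨a, ha⟩
    have h1 : U t u v * h 1 = U 0 0 0 * h a := by rw [D.h_one, mul_one, D.U_zero, one_mul, ha]
    obtain ⟨rfl, rfl, rfl, -⟩ := D.inj₁ _ _ _ _ _ _ _ _ h1
    exact D.U_zero
  comm := by
    rintro _ ⟨a, rfl⟩ _ ⟨b, rfl⟩
    exact D.h_comm a b
  wT := by
    rintro _ ⟨a, rfl⟩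
    refine ⟨a⁻¹, ?_⟩
    rw [D.n_inv, D.n_h, mul_assoc, D.n_n, mul_one]
  wT' := by
    rintro _ ⟨a, rfl⟩
    refine ⟨a⁻¹, ?_⟩
    rw [D.n_inv, D.n_h, mul_assoc, D.n_n, mul_one]
  cap := by
    intro b hb hb'
    rw [D.n_inv] at hb'
    exact Cfsg.Agent.H71.ReeOut.mem_hSub_of D hb hb'
  big := by
    intro x hx
    rcases D.bruhat x with ⟨t, u, v, a, rfl⟩ | ⟨t, u, v, a, t', u', v', rfl⟩
    · exact absurd ⟨t, u, v, a, rfl⟩ hx
    · exact ⟨_, ⟨t, u, v, a, rfl⟩, _, uSub_le_bSub D ⟨t', u', v', rfl⟩, rfl⟩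
  wB := by
    rintro ⟨t, u, v, a, ha⟩
    apply D.ne t u v a 0 0 0 1 0 0 0
    rw [← ha, D.U_zero, D.h_one, one_mul, one_mul, mul_one]

omit [Fintype K] in
theorem h_eq_of (D : Data m U h n) {a b : Kˣ} {v : G} (hv : v ∈ uSub D) (he : h a = v * h b) : a = b := by
  obtain ⟨t, u, w, rfl⟩ := hv
  have h1 : U 0 0 0 * h a = U t u w * h b := by rw [D.U_zero, one_mul, he]
  exact (D.inj₁ _ _ _ _ _ _ _ _ h1).2.2.2

/-- regular elements of the torus -/
theorem reg (D : Data m U h n) (hK : Fintype.card K = 3 ^ (2 * m + 1)) {a : Kˣ} (ha : a * a ≠ 1) :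
    ∀ u ∈ uSub D, u * h a = h a * u → u = 1 := by
  intro u hu hc
  by_contra hu1
  apply ha
  rcases mem_or_of_commute D hK hu hu1 hc.symm with h1 | ⟨v, hv, h1⟩
  · have h2 : h a = h a * h 1 := by rw [D.h_one, mul_one]
    rw [h_eq_of D h1 h2, mul_one]
  · rw [h_eq_of D hv h1]
    simp

theorem orderOf_h (D : Data m U h n) (a : Kˣ) : orderOf (h a) = orderOf a :=
  orderOf_injective (MonoidHom.mk' h D.h_mul) (Cfsg.Agent.H71.ReeOut.h_injective D) a

end abs

theorem not_conj_of_orderOf {G : Type*} [Group G] {a b : G} (h : orderOf a ≠ orderOf b) : ¬ IsConj a b := by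
  intro hc
  obtain ⟨c, hc⟩ := isConj_iff.1 hc
  apply h
  rw [← hc]
  exact ((MulAut.conj c).orderOf_eq a).symm

/-- an element of order prime to `|B|` is not conjugate into `B` -/
theorem not_mem_of_coprime {G : Type*} [Group G] [Finite G] {B : Subgroup G} {z : G} (h1 : orderOf z ≠ 1)
    (hc : (orderOf z).Coprime (Nat.card B)) (x : G) : x⁻¹ * z * x ∉ B := by
  intro h
  have h2 : orderOf (x⁻¹ * z * x) = orderOf z := by
    have := (MulAut.conj x⁻¹).orderOf_eq z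
    rw [MulAut.conj_apply, inv_inv] at this
    exact this
  have h3 := orderOf_dvd_natCard (⟨x⁻¹ * z * x, h⟩ : B)
  rw [Subgroup.orderOf_mk, h2] at h3
  exact h1 (Nat.Coprime.eq_one_of_dvd hc h3)

/-- elements of prime order `r` of a subgroup `A`, with `|N(⟨z⟩) : A| < r - 1`, are not all conjugate -/
theorem exists_not_conj {G : Type*} [Group G] [Finite G] {A : Subgroup G} (hA : IsMulCommutative A) {z : G} (hz : z ∈ A)
    {r k : ℕ} (hzr : orderOf z = r)
    (hN : Nat.card (Subgroup.normalizer ((Subgroup.zpowers z : Subgroup G) : Set G)) = k * Nat.card A)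
    (hAN : A ≤ Subgroup.normalizer ((Subgroup.zpowers z : Subgroup G) : Set G)) (hk : k < r - 1) :
    ∃ j : ℕ, 0 < j ∧ j < r ∧ ¬ IsConj z (z ^ j) := by
  by_contra hcon
  push Not at hcon
  set N := Subgroup.normalizer ((Subgroup.zpowers z : Subgroup G) : Set G) with hNdef
  have hex : ∀ i : Fin (r - 1), ∃ g : G, g * z * g⁻¹ = z ^ ((i : ℕ) + 1) := fun i =>
    isConj_iff.1 (hcon _ (Nat.succ_pos _) (by have := i.2; omega))
  choose g hg using hex
  have hgN : ∀ i, g i ∈ N := by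
    intro i
    have h1 : (Subgroup.zpowers z).map (MulAut.conj (g i)).toMonoidHom ≤ Subgroup.zpowers z := by
      rw [MonoidHom.map_zpowers, Subgroup.zpowers_le]
      show g i * z * (g i)⁻¹ ∈ _
      rw [hg i]
      exact Subgroup.npow_mem_zpowers z _
    have h2 : (Subgroup.zpowers z).map (MulAut.conj (g i)).toMonoidHom = Subgroup.zpowers z := by
      apply Subgroup.eq_of_le_of_card_ge h1
      exact (Nat.card_congr ((Subgroup.zpowers z).equivMapOfInjective _ (MulAut.conj (g i)).injective).toEquiv).le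
    rw [hNdef, Subgroup.mem_normalizer_iff]
    intro x
    constructor
    · intro hx
      have : (MulAut.conj (g i)) x ∈ (Subgroup.zpowers z).map (MulAut.conj (g i)).toMonoidHom :=
        Subgroup.mem_map_of_mem _ hx
      rw [h2] at this
      exact this
    · intro hx
      have h3 : g i * x * (g i)⁻¹ ∈ (Subgroup.zpowers z).map (MulAut.conj (g i)).toMonoidHom := by
        rw [h2]; exact hx
      obtain ⟨y, hy, hy2⟩ := h3
      have h4 : g i * y * (g i)⁻¹ = g i * x * (g i)⁻¹ := hy2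
      have h5 : y = x := by simpa using h4
      rw [← h5]; exact hy
  let f : Fin (r - 1) → N ⧸ A.subgroupOf N := fun i => QuotientGroup.mk ⟨g i, hgN i⟩
  have hf : Function.Injective f := by
    intro i j hij
    have h1 := QuotientGroup.eq.1 hij
    rw [Subgroup.mem_subgroupOf] at h1
    have h2 : (g i)⁻¹ * g j ∈ A := h1
    have h3 : (g i)⁻¹ * g j * z = z * ((g i)⁻¹ * g j) := by
      have := hA.1.1 ⟨_, h2⟩ ⟨z, hz⟩
      exact congrArg Subtype.val this
    have h4 : z ^ ((j : ℕ) + 1) = z ^ ((i : ℕ) + 1) := by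
      calc z ^ ((j : ℕ) + 1) = g j * z * (g j)⁻¹ := (hg j).symm
        _ = g i * ((g i)⁻¹ * g j * z) * (g j)⁻¹ := by group
        _ = g i * (z * ((g i)⁻¹ * g j)) * (g j)⁻¹ := by rw [h3]
        _ = g i * z * (g i)⁻¹ := by group
        _ = _ := hg i
    have h5 := pow_inj_mod.1 h4
    rw [hzr, Nat.mod_eq_of_lt (by have := j.2; omega), Nat.mod_eq_of_lt (by have := i.2; omega)] at h5
    exact Fin.ext (by omega)
  have h1 := Nat.card_le_card_of_injective f hf
  rw [Nat.card_eq_fintype_card, Fintype.card_fin] at h1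
  have h2 : Nat.card (N ⧸ A.subgroupOf N) * Nat.card (A.subgroupOf N) = Nat.card N :=
    (Subgroup.card_eq_card_quotient_mul_card_subgroup _).symm
  rw [Nat.card_congr (Subgroup.subgroupOfEquivOfLe hAN).toEquiv, hN] at h2
  have h3 := Nat.eq_of_mul_eq_mul_right Nat.card_pos h2
  omega

/-- the linear characters of perfect groups -/
theorem eq_one_of_perfect {G : Type*} [Group G] (hG : commutator G = ⊤) {χ : G → ℂ} (hχ : IsIrrCharacter G χ)
    (h1 : χ 1 = 1) : χ = 1 := by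
  obtain ⟨f, rfl⟩ := Characters.Linear.exists_hom_of_isIrrCharacter hχ h1
  have h2 : f.ker = ⊤ := by
    rw [eq_top_iff, ← hG]
    exact Abelianization.commutator_subset_ker f
  funext g
  have h3 : g ∈ f.ker := by rw [h2]; exact Subgroup.mem_top g
  rw [MonoidHom.mem_ker] at h3
  simp [h3]

/-! ### Arithmetic -/

/-- the primitive prime divisor of `3 ^ (6 a) - 1`, `a = 2 m + 1` -/
theorem exists_r {m : ℕ} (hm : 1 ≤ m) : ∃ r : ℕ, r.Prime ∧ r ≠ 2 ∧ r ≠ 3 ∧ 7 < r ∧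
    (∀ k, 0 < k → k < 3 * (2 * m + 1) → ¬ r ∣ 3 ^ k + 1) ∧ ¬ r ∣ 3 ^ (2 * m + 1) - 1 ∧ ¬ r ∣ 3 ^ (2 * m + 1) + 1 ∧
    r ∣ 3 ^ (3 * (2 * m + 1)) + 1 := by
  obtain ⟨r, hr, h1, h2, h3⟩ := Cfsg.Agent.Lib.Zsigmondy.exists_primitive (a := 3) (n := 6 * (2 * m + 1))
    (by norm_num) (by omega) (by omega) (by omega)
  have hr1 : 6 * (2 * m + 1) ≤ r - 1 := Nat.le_of_dvd (by have := hr.two_le; omega) h2
  have hsq : ∀ k, r ∣ 3 ^ k + 1 → r ∣ 3 ^ (2 * k) - 1 := by
    intro k hk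
    have e : 3 ^ (2 * k) - 1 = (3 ^ k + 1) * (3 ^ k - 1) := by
      rw [two_mul, pow_add]
      have := Nat.mul_self_sub_mul_self_eq (3 ^ k) 1
      simpa using this
    rw [e]
    exact hk.mul_right _
  have h4 : ∀ k, 0 < k → k < 3 * (2 * m + 1) → ¬ r ∣ 3 ^ k + 1 := by
    intro k hk hk2 hd
    have h5 := (h1 _).1 (hsq k hd)
    have h6 := Nat.le_of_dvd (by omega) h5
    omega
  refine ⟨r, hr, by omega, by omega, by omega, h4, ?_, h4 _ (by omega) (by omega), ?_⟩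
  · intro hd
    have h5 := Nat.le_of_dvd (by omega) ((h1 _).1 hd)
    omega
  · have h5 : r ∣ 3 ^ (2 * (3 * (2 * m + 1))) - 1 := (h1 _).2 ⟨1, by ring⟩
    have e : 3 ^ (2 * (3 * (2 * m + 1))) - 1 = (3 ^ (3 * (2 * m + 1)) + 1) * (3 ^ (3 * (2 * m + 1)) - 1) := by
      rw [two_mul, pow_add]
      have := Nat.mul_self_sub_mul_self_eq (3 ^ (3 * (2 * m + 1))) 1
      simpa using this
    rw [e] at h5
    rcases (hr.dvd_mul).1 h5 with h6 | h6
    · exact h6
    · have h7 := Nat.le_of_dvd (by omega) ((h1 _).1 h6)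
      omega

/-- the numbers `q ± 3 ^ (m + 1) + 1` -/
theorem fac (m : ℕ) (hm : 1 ≤ m) : ∃ q x : ℕ, q = 3 ^ (2 * m + 1) ∧ x = 3 ^ (m + 1) ∧ x * x = 3 * q ∧ 9 ≤ x ∧ x < q ∧
    (q - x + 1) * (q + x + 1) * (q + 1) = q ^ 3 + 1 := by
  refine ⟨_, _, rfl, rfl, ?_, ?_, ?_, ?_⟩
  · rw [← pow_add, ← pow_succ']
    congr 1
    omega
  · calc 9 = 3 ^ 2 := by norm_num
      _ ≤ 3 ^ (m + 1) := Nat.pow_le_pow_right (by norm_num) (by omega)
  · exact Nat.pow_lt_pow_right (by norm_num) (by omega)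
  · have h1 : 3 ^ (m + 1) ≤ 3 ^ (2 * m + 1) := Nat.pow_le_pow_right (by norm_num) (by omega)
    have h2 : 3 ^ (m + 1) * 3 ^ (m + 1) = 3 * 3 ^ (2 * m + 1) := by
      rw [← pow_add, ← pow_succ']
      congr 1
      omega
    generalize 3 ^ (m + 1) = x at *
    generalize 3 ^ (2 * m + 1) = q at *
    obtain ⟨y, rfl⟩ := Nat.exists_eq_add_of_le h1
    rw [Nat.add_sub_cancel_left]
    nlinarith [h2]

/-- **Ree groups**: no irreducible character vanishes on exactly one class. -/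
theorem not_oneZero {K : Type*} [Field K] [Fintype K] {m : ℕ} (hm : 1 ≤ m) (hK : Fintype.card K = 3 ^ (2 * m + 1))
    {χ : ↥(Cfsg.Lie.twistedG2 K (3 ^ m)) → ℂ} (hχ : IsIrrCharacter ↥(Cfsg.Lie.twistedG2 K (3 ^ m)) χ) :
    ¬ OneZero χ := by
  classical
  obtain ⟨U, h, n, D⟩ := Cfsg.Agent.ChevalleyStructure.Ree.Data.exists_data hK
  have : Finite ↥(Cfsg.Lie.twistedG2 K (3 ^ m)) := inferInstance
  have := Fintype.ofFinite ↥(Cfsg.Lie.twistedG2 K (3 ^ m))
  have : Fintype (spl D).U := Fintype.ofFinite _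
  obtain ⟨q, x, hq, hx, hxx, hx9, hxq, hfac⟩ := fac m hm
  have hKq : Fintype.card K = q := by rw [hK, hq]
  have hcU : Nat.card (spl D).U = q ^ 3 := by rw [← hKq]; exact card_uSub D
  have hcT : Nat.card (spl D).T = q - 1 := by rw [← hKq]; exact Cfsg.Agent.H71.ReeOut.card_hSub D
  have hcB : Nat.card (spl D).B = q ^ 3 * (q - 1) := by rw [(spl D).card_B, hcU, hcT]
  have hcG : Nat.card ↥(Cfsg.Lie.twistedG2 K (3 ^ m)) = (q ^ 3 + 1) * (q ^ 3 * (q - 1)) := by
    rw [(spl D).card_G, hcU, hcB]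
  rintro ⟨x0, hx0, hx1⟩
  have hcon : ∀ g g' : ↥(Cfsg.Lie.twistedG2 K (3 ^ m)), χ g = 0 → χ g' = 0 → orderOf g ≠ orderOf g' → False := by
    intro g g' hg hg' hne
    exact not_conj_of_orderOf hne ((hx1 g hg).symm.trans (hx1 g' hg'))
  -- coprimality
  have hcop : ∀ k, k ∣ q ^ 3 + 1 → Odd k → Nat.Coprime k (Nat.card (spl D).B) := by
    intro k hk hk2
    rw [hcB]
    have h1 : Nat.Coprime k (q ^ 3) := by
      have h2 : Nat.Coprime (q ^ 3 + 1) (q ^ 3) := (Nat.coprime_self_add_left).2 (Nat.coprime_one_left _)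
      exact Nat.Coprime.coprime_dvd_left hk h2
    have h3 : Nat.Coprime k (q - 1) := by
      by_contra hc
      obtain ⟨p, hp, hp2, hp1⟩ := Nat.Prime.not_coprime_iff_dvd.1 hc
      have h4 : p ∣ q ^ 3 + 1 := hp2.trans hk
      have h5 : p ∣ q ^ 3 - 1 := by
        have : q - 1 ∣ q ^ 3 - 1 := by
          have := Nat.sub_dvd_pow_sub_pow q 1 3
          rwa [one_pow] at this
        exact hp1.trans this
      have h6 : 1 ≤ q ^ 3 := Nat.one_le_pow _ _ (by omega)
      have h7 : p ∣ 2 := by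
        have h8 := Nat.dvd_sub h4 h5
        have e : q ^ 3 + 1 - (q ^ 3 - 1) = 2 := by omega
        rwa [e] at h8
      rw [(Nat.prime_dvd_prime_iff_eq hp Nat.prime_two).1 h7] at hp2
      exact (Nat.not_even_iff_odd.2 hk2) ((even_iff_two_dvd).2 hp2)
    exact Nat.Coprime.mul_right h1 h3
  have hqo : Odd q := by rw [hq]; exact Odd.pow (by decide)
  have hxo : Odd x := by rw [hx]; exact Odd.pow (by decide)
  have hk1o : Odd (q - x + 1) := by
    obtain ⟨a, ha⟩ := hqo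
    obtain ⟨b, hb⟩ := hxo
    exact ⟨a - b, by omega⟩
  have hk2o : Odd (q + x + 1) := by
    obtain ⟨a, ha⟩ := hqo
    obtain ⟨b, hb⟩ := hxo
    exact ⟨a + b + 1, by omega⟩
  have hk1d : q - x + 1 ∣ q ^ 3 + 1 := ⟨(q + x + 1) * (q + 1), by rw [← hfac]; ring⟩
  have hk2d : q + x + 1 ∣ q ^ 3 + 1 := ⟨(q - x + 1) * (q + 1), by rw [← hfac]; ring⟩
  rcases R1.cases (spl D) hχ with h0 | ⟨f, hf⟩ | h1 | hst | ⟨f, χ', d, d', hinv, hf1, hsum, hχ', hne, hne', hd, hd', hdd, hdv, hdv'⟩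
  · -- cuspidal
    obtain ⟨a, ha⟩ := IsCyclic.exists_generator (α := Kˣ)
    have hao : orderOf a = q - 1 := by
      rw [orderOf_eq_card_of_forall_mem_zpowers ha, Nat.card_units, Nat.card_eq_fintype_card, hKq]
    have hle : ∀ k, 0 < k → a ^ k = 1 → q - 1 ≤ k := by
      intro k hk h1
      rw [← hao]
      exact Nat.le_of_dvd hk (orderOf_dvd_of_pow_eq_one h1)
    have h1 : a * a ≠ 1 := by
      intro h2
      have := hle 2 (by norm_num) (by rw [pow_two]; exact h2)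
      omega
    have h2 : (a * a) * (a * a) ≠ 1 := by
      intro h2
      have := hle 4 (by norm_num) (by
        calc a ^ 4 = (a * a) * (a * a) := by simp only [pow_succ, pow_zero, one_mul, mul_assoc]
          _ = 1 := h2)
      omega
    have hz : ∀ b : Kˣ, b * b ≠ 1 → χ (h b) = 0 := by
      intro b hb
      exact R1.cusp_zero hχ h0 (fun u hu => (spl D).nU _ (h_mem_bSub D b) u hu) (reg D hK hb)
    refine hcon _ _ (hz _ h1) (hz _ h2) ?_
    rw [orderOf_h D, orderOf_h D, hao]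
    intro h3
    obtain ⟨c, hc⟩ := hqo
    have h4 : (a * a) ^ c = 1 := by
      rw [← pow_two, ← pow_mul, ← pow_orderOf_eq_one a, hao]
      congr 1
      omega
    have h5 := Nat.le_of_dvd (by omega) (orderOf_dvd_of_pow_eq_one h4)
    omega
  · -- irreducible principal series
    obtain ⟨z1, hz1⟩ := (Cfsg.Agent.S1159.result hm hK (q - x + 1)).2 (by
      rw [← hq, ← hx]
      simp)
    obtain ⟨z2, hz2⟩ := (Cfsg.Agent.S1159.result hm hK (q + x + 1)).2 (by
      rw [← hq, ← hx]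
      simp)
    rw [hf] at hcon
    refine hcon z1 z2 ?_ ?_ (by rw [hz1, hz2]; omega)
    · apply R1.ps_zero
      apply not_mem_of_coprime
      · rw [hz1]; omega
      · rw [hz1]; exact hcop _ hk1d hk1o
    · apply R1.ps_zero
      apply not_mem_of_coprime
      · rw [hz2]; omega
      · rw [hz2]; exact hcop _ hk2d hk2o
  · -- trivial
    rw [h1] at hx0
    exact one_ne_zero hx0
  · -- Steinberg
    have hz : ∀ v ∈ uSub D, v ≠ 1 → χ v = 0 := by
      intro v hv hv1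
      have h1 := (spl D).ps_U 1 (fun _ _ => rfl) hv hv1
      rw [hst, Pi.add_apply, Pi.one_apply] at h1
      linear_combination h1
    have o1 := orderOf_U_one D hK
    have o2 := orderOf_U_zero_one D hK
    refine hcon _ _ (hz (U 1 0 0) ⟨_, _, _, rfl⟩ ?_) (hz (U 0 1 0) ⟨_, _, _, rfl⟩ ?_) (by rw [o1, o2]; norm_num)
    · intro h1
      rw [h1, orderOf_one] at o1
      omega
    · intro h1
      rw [h1, orderOf_one] at o2
      omega
  · -- the two constituents of the reducible principal series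
    obtain ⟨r, hr, hr2, hr3, hr7, hrk, hrq1, hrq2, hrq3⟩ := exists_r hm
    have hq3 : 3 ^ (3 * (2 * m + 1)) = q ^ 3 := by rw [hq, ← pow_mul, mul_comm]
    rw [← hq] at hrq1 hrq2
    rw [hq3] at hrq3
    have hperf := Cfsg.Agent.S1116.result hK hm
    have hd1 : d ≠ 1 := fun h1 => hne (eq_one_of_perfect hperf hχ (by rw [hd, h1, Nat.cast_one]))
    have hd1' : d' ≠ 1 := fun h1 => hne' (eq_one_of_perfect hperf hχ' (by rw [hd', h1, Nat.cast_one]))
    obtain ⟨c, b, hrb, hcb⟩ := Nat.exists_eq_pow_mul_and_not_dvd (n := Nat.card ↥(Cfsg.Lie.twistedG2 K (3 ^ m)))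
      Nat.card_pos.ne' r hr.ne_one
    have hrB : ¬ r ∣ q ^ 3 * (q - 1) := by
      intro h1
      rcases hr.dvd_mul.1 h1 with h2 | h2
      · have h3 := hr.dvd_of_dvd_pow h2
        rw [hq] at h3
        exact hr3 ((Nat.prime_dvd_prime_iff_eq hr Nat.prime_three).1 (hr.dvd_of_dvd_pow h3))
      · exact hrq1 h2
    have hrc : r ^ c ∣ 3 ^ (3 * (2 * m + 1)) + 1 := by
      rw [hq3]
      have h1 : r ^ c ∣ (q ^ 3 + 1) * (q ^ 3 * (q - 1)) := by
        rw [← hcG, hcb]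
        exact Dvd.intro _ rfl
      exact (Nat.Coprime.pow_left c ((Nat.Prime.coprime_iff_not_dvd hr).2 hrB)).dvd_of_dvd_mul_right h1
    have hrd := (R1.arith Nat.prime_three hr hr2 hrk (by rw [hq3, ← hcU]; exact hdv) (by rw [hq3, ← hcU]; exact hdv')
      (by rw [hq3, ← hcU]; exact hdd) hd1 hd1' hrc).1
    have hzero : ∀ g : ↥(Cfsg.Lie.twistedG2 K (3 ^ m)), r ∣ orderOf g → χ g = 0 := by
      intro g hg
      refine H732.VZ.zero_of_defect hr hcb hrb ⟨χ, hχ⟩ ?_ hg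
      have h1 : charDegree χ = d := by
        have h2 := H686.CharKit.charDegree_irr ⟨χ, hχ⟩
        have h3 : (charDegree χ : ℂ) = d := h2.trans hd
        exact_mod_cast h3
      show r ^ c ∣ charDegree χ
      rw [h1]
      exact hrd
    -- the isolated subgroup
    obtain ⟨A, k, hAc, hAk, hrA, hNA, hNA0⟩ : ∃ (A : Subgroup ↥(Cfsg.Lie.twistedG2 K (3 ^ m))) (k : ℕ), IsCyclic A ∧
        Nat.card A = k ∧ r ∣ k ∧ Nat.card (Subgroup.normalizer (A : Set ↥(Cfsg.Lie.twistedG2 K (3 ^ m)))) = 6 * k ∧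
        ∀ A₀ : Subgroup ↥(Cfsg.Lie.twistedG2 K (3 ^ m)), A₀ ≤ A → A₀ ≠ ⊥ →
          Subgroup.normalizer (A₀ : Set ↥(Cfsg.Lie.twistedG2 K (3 ^ m))) =
            Subgroup.normalizer (A : Set ↥(Cfsg.Lie.twistedG2 K (3 ^ m))) := by
      have hS := Cfsg.Agent.S1158.result hm hK
      rw [← hfac] at hrq3
      rw [← hq, ← hx] at hS
      rcases hr.dvd_mul.1 hrq3 with h1 | h1
      · rcases hr.dvd_mul.1 h1 with h2 | h2
        · obtain ⟨A, h3, h4, h5, h6⟩ := hS (q - x + 1, 6 * (q - x + 1)) (by simp)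
          exact ⟨A, _, h3, h4, h2, h5, h6⟩
        · obtain ⟨A, h3, h4, h5, h6⟩ := hS (q + x + 1, 6 * (q + x + 1)) (by simp)
          exact ⟨A, _, h3, h4, h2, h5, h6⟩
      · exact absurd h1 hrq2
    have hrf : Fact r.Prime := ⟨hr⟩
    obtain ⟨z, hz⟩ := exists_prime_orderOf_dvd_card' (G := A) r (by rw [hAk]; exact hrA)
    have hzo : orderOf (z : ↥(Cfsg.Lie.twistedG2 K (3 ^ m))) = r := by rw [Subgroup.orderOf_coe]; exact hz
    have hzA : Subgroup.zpowers (z : ↥(Cfsg.Lie.twistedG2 K (3 ^ m))) ≤ A := (Subgroup.zpowers_le).2 z.2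
    have hz1 : Subgroup.zpowers (z : ↥(Cfsg.Lie.twistedG2 K (3 ^ m))) ≠ ⊥ := by
      rw [Subgroup.zpowers_ne_bot]
      intro h1
      rw [h1, orderOf_one] at hzo
      exact hr.one_lt.ne hzo
    have hN := hNA0 _ hzA hz1
    obtain ⟨j, hj0, hjr, hj⟩ := exists_not_conj (A := A) (k := 6) inferInstance z.2 hzo (by rw [hN, hNA, hAk])
      (by rw [hN]; exact Subgroup.le_normalizer) (by omega)
    apply hj
    have hoj : r ∣ orderOf ((z : ↥(Cfsg.Lie.twistedG2 K (3 ^ m))) ^ j) := by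
      have h1 : orderOf ((z : ↥(Cfsg.Lie.twistedG2 K (3 ^ m))) ^ j) = r := by
        rw [orderOf_pow' _ hj0.ne', hzo]
        have h2 : Nat.gcd r j = 1 := Nat.coprime_of_lt_prime hj0.ne' hjr hr
        rw [h2, Nat.div_one]
      rw [h1]
    exact (hx1 _ (hzero _ (by rw [hzo]))).symm.trans (hx1 _ (hzero _ hoj))

/-- `OneZero` transports along isomorphisms -/
theorem oneZero_congr {S T : Type*} [Group S] [Group T] (e : S ≃* T) {χ : S → ℂ} (h : OneZero χ) :
    OneZero (χ ∘ (e.symm : T → S)) := by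
  obtain ⟨x, hx0, hx⟩ := h
  refine ⟨e x, by simpa using hx0, fun y hy => ?_⟩
  obtain ⟨c, hc⟩ := isConj_iff.1 (hx (e.symm y) hy)
  refine isConj_iff.2 ⟨e c, ?_⟩
  rw [← map_inv, ← map_mul, ← map_mul, hc, e.apply_symm_apply]

/-- **The row of the small Ree groups.** -/
theorem row_ree {S : Type u} [Group S] [Finite S] (h : Cfsg.Lie.IsoRee S) : Row S := by
  obtain ⟨K, _, _, m, hm, hK, ⟨e⟩⟩ := h
  intro χ hχ h1
  exact absurd (oneZero_congr e h1) (not_oneZero hm hK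
    (Characters.Core.isIrr_comp (e.symm : ↥(Cfsg.Lie.twistedG2 K (3 ^ m)) →* S) e.symm.surjective hχ))

end Cfsg.Agent.H956.OZ.Ree
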