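import Cfsg.Agent.H113.Two.SplitGen
import Cfsg.Agent.H664.R1.SplitMore
import Cfsg.Agent.H664.R1.RankDeg
import Cfsg.Agent.H631.Kaw.Coef
import Cfsg.Agent.Characters.CentralCharacter
import Cfsg.Agent.Characters.DegreeBounds

/-!
# Zeros of characters of groups with a split BN pair of rank one (helper956)

* `cusp_zero` : no `U`-fixed vectors: zero at the elements `t` normalising `U` with `C_U(t) = 1`;
* `ps_zero` : principal series vanish at the elements without conjugate in `B`;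
* `deg_dvd` : `χ(1)` divides `|U| (|U| + 1) m`, `m` the dimension of the `U`-fixed vectors;
* `cases` : cuspidal, or irreducible principal series, or trivial, or Steinberg, or one of two constituents of a
  principal series with both degrees dividing `|U| (|U| + 1)`.
-/

set_option autoImplicit false

open scoped ComplexConjugate

namespace Cfsg.Agent.H956.OZ.R1

open Cfsg Cfsg.Agent.Characters.Core Cfsg.Agent.OddOrderCharacters.Clifford Cfsg.Agent.H664.R1
  Cfsg.Agent.CharactersDeep.MackeyLinear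

universe u

variable {G : Type u} [Group G]

/-- no `U`-fixed vectors: zero at the regular elements -/
theorem cusp_zero {U : Subgroup G} [Fintype U] {χ : G → ℂ} (hχ : IsIrrCharacter G χ) (h0 : ∑ u : U, χ u = 0)
    {t : G} (ht : ∀ u ∈ U, t * u * t⁻¹ ∈ U) (hreg : ∀ u ∈ U, u * t = t * u → u = 1) : χ t = 0 := by
  classical
  have h1 := H113.Two.SplitGen.sum_mul_eq_zero (isIrr_isCharacter hχ) h0 t
  let f : U → U := fun u => ⟨u * (t * (u : G)⁻¹ * t⁻¹), U.mul_mem u.2 (ht _ (U.inv_mem u.2))⟩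
  have hf : Function.Injective f := by
    intro x y hxy
    have h2 : (x : G) * (t * (x : G)⁻¹ * t⁻¹) = y * (t * (y : G)⁻¹ * t⁻¹) := congrArg Subtype.val hxy
    have h3 : (y : G)⁻¹ * x * t = t * ((y : G)⁻¹ * x) := by
      calc (y : G)⁻¹ * x * t = (y : G)⁻¹ * (x * (t * (x : G)⁻¹ * t⁻¹)) * (t * x) := by group
        _ = (y : G)⁻¹ * (y * (t * (y : G)⁻¹ * t⁻¹)) * (t * x) := by rw [h2]
        _ = t * ((y : G)⁻¹ * x) := by group
    have h4 := hreg _ (U.mul_mem (U.inv_mem y.2) x.2) h3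
    exact Subtype.ext (inv_mul_eq_one.1 h4).symm
  have hb : Function.Bijective f := Finite.injective_iff_bijective.1 hf
  have h2 : ∑ u : U, χ ((f u : U) * t) = 0 := by
    rw [← h1]
    exact hb.sum_comp (fun u : U => χ (u * t))
  have h3 : ∀ u : U, χ ((f u : U) * t) = χ t := by
    intro u
    have h4 : ((f u : U) : G) * t = u * t * (u : G)⁻¹ := by
      show (u : G) * (t * (u : G)⁻¹ * t⁻¹) * t = _
      group
    rw [h4]
    exact isIrr_isClassFunction hχ t u
  rw [Finset.sum_congr rfl fun u _ => h3 u, Finset.sum_const, Finset.card_univ, nsmul_eq_mul] at h2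
  exact (mul_eq_zero.1 h2).resolve_left (by rw [← Nat.card_eq_fintype_card]; exact card_ne_zero')

variable [Fintype G] (D : Split G)

/-- principal series vanish off the conjugates of `B` -/
theorem ps_zero (f : D.B →* ℂˣ) {g : G} (hg : ∀ x : G, x⁻¹ * g * x ∉ D.B) : D.ps f g = 0 := by
  classical
  have := Fintype.ofFinite D.B
  rw [D.ps_def, OddOrderCharacters.Clifford.indFun_apply]
  rw [Finset.sum_eq_zero fun x _ => ext_apply_not_mem D.B _ _ (hg x), mul_zero]

/-- the degree of a character divides `|G : B| * |U| * dim V^U` -/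
theorem deg_dvd [Fintype D.U] {χ : G → ℂ} (hχ : IsIrrCharacter G χ) {d k : ℕ} (hd : χ 1 = d)
    (hk : classInner (fun u : D.U => χ u) 1 = k) : d ∣ (Nat.card D.U + 1) * Nat.card D.U * k := by
  classical
  have hB : ∀ b ∈ D.B, ∀ u : G, b⁻¹ * u * b ∈ D.U ↔ u ∈ D.U := by
    intro b hb u
    refine ⟨fun h => ?_, fun h => D.nU' hb h⟩
    have := D.nU b hb _ h
    have e : b * (b⁻¹ * u * b) * b⁻¹ = u := by group
    rwa [e] at this
  have hinv : ∀ (x g : G), ∀ l ∈ D.B, ((g * l)⁻¹ * x * (g * l) ∈ D.U ↔ g⁻¹ * x * g ∈ D.U) := by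
    intro x g l hl
    have e : (g * l)⁻¹ * x * (g * l) = l⁻¹ * (g⁻¹ * x * g) * l := by group
    rw [e, hB l hl]
  have hfin : Finite (G ⧸ D.B) := inferInstance
  have := Fintype.ofFinite (G ⧸ D.B)
  -- the class function
  let F : G → ℤ := fun x => ∑ c : G ⧸ D.B, if (Quotient.out c)⁻¹ * x * Quotient.out c ∈ D.U then 1 else 0
  have hF : ∀ x, ((∑ g : G, if g⁻¹ * x * g ∈ D.U then (1 : ℤ) else 0)) = (Nat.card D.B : ℤ) * F x := by
    intro x
    exact H631.Kaw.sum_eq_card_mul D.B (fun g => if g⁻¹ * x * g ∈ D.U then (1 : ℤ) else 0) (fun g l hl => by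
      simp only [hinv x g l hl])
  have hBn : (Nat.card D.B : ℤ) ≠ 0 := by exact_mod_cast Nat.card_pos.ne'
  have hcl : ∀ x g, F (g * x * g⁻¹) = F x := by
    intro x g
    apply mul_left_cancel₀ hBn
    rw [← hF, ← hF]
    refine Fintype.sum_equiv (Equiv.mulLeft g⁻¹) _ _ fun y => ?_
    have e : (g⁻¹ * y)⁻¹ * x * (g⁻¹ * y) = y⁻¹ * (g * x * g⁻¹) * y := by group
    simp only [Equiv.coe_mulLeft, e]
  obtain ⟨n, ρ, hρ, rfl⟩ := hχ
  have h1 := Characters.CentralCharacter.isIntegral_sum_int ρ F hcl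
  -- the sum
  have h2 : ∑ x, (F x : ℂ) * ρ.character x = ((Nat.card D.U + 1) * Nat.card D.U * k : ℕ) := by
    have hBc : (Nat.card D.B : ℂ) ≠ 0 := card_ne_zero'
    apply mul_left_cancel₀ hBc
    have h3 : (Nat.card D.B : ℂ) * ∑ x, (F x : ℂ) * ρ.character x =
        ∑ x : G, ∑ g : G, if g⁻¹ * x * g ∈ D.U then ρ.character x else 0 := by
      rw [Finset.mul_sum]
      refine Finset.sum_congr rfl fun x _ => ?_
      have h4 : ((Nat.card D.B : ℂ) * (F x : ℂ)) = ∑ g : G, if g⁻¹ * x * g ∈ D.U then (1 : ℂ) else 0 := by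
        have := congrArg (Int.cast (R := ℂ)) (hF x)
        push_cast at this
        rw [← this]
      rw [← mul_assoc, h4, Finset.sum_mul]
      refine Finset.sum_congr rfl fun g _ => ?_
      split_ifs <;> simp
    rw [h3, Finset.sum_comm]
    have h5 : ∀ g : G, (∑ x : G, if g⁻¹ * x * g ∈ D.U then ρ.character x else 0) = ∑ u : D.U, ρ.character u := by
      intro g
      have h6 : (∑ x : G, if g⁻¹ * x * g ∈ D.U then ρ.character x else 0) =
          ∑ x : G, if x ∈ D.U then ρ.character x else 0 := by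
        refine Fintype.sum_equiv (MulAut.conj g⁻¹).toEquiv _ _ fun x => ?_
        have e : (MulAut.conj g⁻¹).toEquiv x = g⁻¹ * x * g := by
          show g⁻¹ * x * g⁻¹⁻¹ = _
          rw [inv_inv]
        have e2 : ρ.character (g⁻¹ * x * g) = ρ.character x := by
          have := ρ.char_conj x g⁻¹
          rwa [inv_inv] at this
        rw [e, e2]
      rw [h6, ← Finset.sum_filter]
      exact (Finset.sum_subtype _ (by simp) _)
    rw [Finset.sum_congr rfl fun g _ => h5 g, Finset.sum_const, Finset.card_univ, nsmul_eq_mul]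
    have h7 : ∑ u : D.U, ρ.character u = Nat.card D.U * k := by
      have := hk
      rw [classInner_def] at this
      simp only [Pi.one_apply, map_one, mul_one] at this
      rw [← this, ← mul_assoc, mul_inv_cancel₀ card_ne_zero', one_mul]
    rw [h7, ← Nat.card_eq_fintype_card, D.card_G]
    push_cast
    ring
  rw [h2] at h1
  have hd' : (Module.finrank ℂ (Fin n → ℂ) : ℂ) = d := by
    rw [← hd]
    exact ρ.char_one.symm
  rw [hd'] at h1
  have hd0 : d ≠ 0 := by
    intro h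
    rw [h, Nat.cast_zero] at hd
    exact isIrr_apply_one_ne_zero ⟨n, ρ, hρ, rfl⟩ hd
  exact Characters.DegreeBounds.nat_dvd_of_isIntegral_div hd0 h1

/-- **The irreducible characters.** -/
theorem cases [Fintype D.U] {χ : G → ℂ} (hχ : IsIrrCharacter G χ) :
    (∑ u : D.U, χ u = 0) ∨ (∃ f : D.B →* ℂˣ, χ = D.ps f) ∨ χ = 1 ∨ D.ps 1 = 1 + χ ∨
      ∃ (f : D.B →* ℂˣ) (χ' : G → ℂ) (d d' : ℕ), D.Inv f ∧ f ≠ 1 ∧ D.ps f = χ + χ' ∧ IsIrrCharacter G χ' ∧
        χ ≠ 1 ∧ χ' ≠ 1 ∧ χ 1 = d ∧ χ' 1 = d' ∧ d + d' = Nat.card D.U + 1 ∧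
        d ∣ (Nat.card D.U + 1) * Nat.card D.U ∧ d' ∣ (Nat.card D.U + 1) * Nat.card D.U := by
  classical
  by_cases h0 : ∑ u : D.U, χ u = 0
  · exact Or.inl h0
  refine Or.inr ?_
  have h1 : classInner (fun u : D.U => χ u) 1 ≠ 0 := fun h => h0 (noFix_iff.1 (noFix_iff_inner.2 h))
  obtain ⟨f, hf, hne⟩ := D.exists_ps hχ h1
  by_cases hinv : ∀ t, ∀ ht : t ∈ D.T, f ⟨t, D.TB ht⟩ = f ⟨D.w⁻¹ * t * D.w, D.TB (D.wT t ht)⟩
  swap
  · left
    push Not at hinv
    have h2 := D.isIrr_ps f hinv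
    refine ⟨f, ?_⟩
    by_contra h3
    exact hne (classInner_irr_ne h2 hχ (fun h => h3 h.symm))
  right
  -- two constituents
  obtain ⟨χ', hχ', hne', hsum⟩ : ∃ χ' : G → ℂ, IsIrrCharacter G χ' ∧ χ' ≠ χ ∧ D.ps f = χ + χ' := by
    obtain ⟨a, b, hab, h⟩ := exists_two (D.isCharacter_ps f) (D.norm_ps f hinv)
    by_cases ha : (a : G → ℂ) = χ
    · exact ⟨b, b.2, fun hb => hab (Subtype.ext (ha.trans hb.symm)), by rw [h, ha]⟩
    by_cases hb : (b : G → ℂ) = χ
    · exact ⟨a, a.2, ha, by rw [h, hb, add_comm]⟩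
    · exfalso
      apply hne
      rw [h, classInner_add_left, classInner_irr_ne a.2 hχ ha, classInner_irr_ne b.2 hχ hb, add_zero]
  by_cases hf1 : f = 1
  · subst hf1
    have h3 := D.inner_ps_one
    rw [hsum, classInner_add_left] at h3
    by_cases h4 : χ = 1
    · exact Or.inl h4
    right; left
    by_cases h5 : χ' = 1
    · rw [hsum, h5, add_comm]
    · rw [classInner_irr_ne hχ isIrr_one h4, classInner_irr_ne hχ' isIrr_one h5, add_zero] at h3
      exact absurd h3 zero_ne_one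
  right; right
  have h3 := D.inner_ps_one_eq_zero f hf1
  rw [hsum, classInner_add_left] at h3
  have h4 : χ ≠ 1 := by
    intro h
    rw [h, classInner_irr_self isIrr_one, classInner_irr_ne hχ' isIrr_one (h ▸ hne'), add_zero] at h3
    exact one_ne_zero h3
  have h5 : χ' ≠ 1 := by
    intro h
    rw [h, classInner_irr_self isIrr_one, classInner_irr_ne hχ isIrr_one h4, zero_add] at h3
    exact one_ne_zero h3
  -- fixed vectors
  obtain ⟨k, hk⟩ := classInner_isNat (isCharacter_comp D.U.subtype (isIrr_isCharacter hχ)) (isCharacter_one (G := D.U))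
  obtain ⟨k', hk'⟩ := classInner_isNat (isCharacter_comp D.U.subtype (isIrr_isCharacter hχ'))
    (isCharacter_one (G := D.U))
  have e1 : classInner (fun u : D.U => χ u) 1 = k := hk
  have e2 : classInner (fun u : D.U => χ' u) 1 = k' := hk'
  have h6 : classInner (fun u : D.U => χ' u) 1 ≠ 0 := by
    apply D.inner_ne_zero f hf hχ'
    rw [hsum, classInner_add_left, classInner_irr_self hχ', classInner_irr_ne hχ hχ' hne'.symm, zero_add]
    exact one_ne_zero
  have h7 := D.inner_U_one f hf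
  rw [hsum] at h7
  have h8 := D.inner_add_U χ χ' (1 : D.U → ℂ)
  rw [h7, e1, e2] at h8
  have h9 : 2 = k + k' := by exact_mod_cast h8
  have hk0 : k ≠ 0 := by rintro rfl; exact h1 (by rw [e1, Nat.cast_zero])
  have hk0' : k' ≠ 0 := by rintro rfl; exact h6 (by rw [e2, Nat.cast_zero])
  have hk1 : k = 1 := by omega
  have hk1' : k' = 1 := by omega
  obtain ⟨d, hd⟩ := isCharacter_apply_one (isIrr_isCharacter hχ)
  obtain ⟨d', hd'⟩ := isCharacter_apply_one (isIrr_isCharacter hχ')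
  refine ⟨f, χ', d, d', ⟨hf, hinv⟩, hf1, hsum, hχ', h4, h5, hd, hd', ?_, ?_, ?_⟩
  · have := congrFun hsum 1
    rw [D.ps_one, Pi.add_apply, hd, hd'] at this
    exact_mod_cast this.symm
  · have := deg_dvd D hχ hd e1
    rwa [hk1, mul_one] at this
  · have := deg_dvd D hχ' hd' e2
    rwa [hk1', mul_one] at this

/-- arithmetic of the two degrees -/
theorem arith {p v r c d d' : ℕ} (hp : p.Prime) (hr : r.Prime) (hr2 : r ≠ 2)
    (h : ∀ k, 0 < k → k < v → ¬ r ∣ p ^ k + 1) (hd : d ∣ (p ^ v + 1) * p ^ v) (hd' : d' ∣ (p ^ v + 1) * p ^ v)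
    (hs : d + d' = p ^ v + 1) (h1 : d ≠ 1) (h1' : d' ≠ 1) (hc : r ^ c ∣ p ^ v + 1) : r ^ c ∣ d ∧ r ^ c ∣ d' := by
  have hpos : 0 < (p ^ v + 1) * p ^ v := Nat.mul_pos (Nat.succ_pos _) (pow_pos hp.pos v)
  have hd0 : 0 < d := Nat.pos_of_dvd_of_pos hd hpos
  have hd0' : 0 < d' := Nat.pos_of_dvd_of_pos hd' hpos
  have e1 : (p ^ v + 1) * p ^ v = d * p ^ v + d' * p ^ v := by rw [← hs]; ring
  obtain ⟨a, ha⟩ : d ∣ d' * p ^ v := (Nat.dvd_add_right (Dvd.intro _ rfl)).1 (e1 ▸ hd)
  obtain ⟨b, hb⟩ : d' ∣ d * p ^ v := (Nat.dvd_add_left (Dvd.intro _ rfl)).1 (e1 ▸ hd')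
  have hab : a * b = p ^ (2 * v) := by
    have h2 : (d * d') * (a * b) = (d * d') * p ^ (2 * v) := by
      calc (d * d') * (a * b) = (d * a) * (d' * b) := by ring
        _ = (d' * p ^ v) * (d * p ^ v) := by rw [← ha, ← hb]
        _ = (d * d') * p ^ (2 * v) := by rw [two_mul, pow_add]; ring
    exact Nat.eq_of_mul_eq_mul_left (Nat.mul_pos hd0 hd0') h2
  -- one divides the other
  have key : ∀ x y i : ℕ, 0 < x → x ≠ 1 → y = p ^ i * x → x + y = p ^ v + 1 → r ^ c ∣ x := by
    intro x y i hx hx1 hy hxy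
    have h2 : (p ^ i + 1) * x = p ^ v + 1 := by rw [← hxy, hy]; ring
    have h3 : i < v := by
      by_contra h4
      have h5 : p ^ v ≤ p ^ i := Nat.pow_le_pow_right hp.pos (not_lt.1 h4)
      have h6 : 2 ≤ x := by omega
      have h7 : (p ^ i + 1) * 2 ≤ (p ^ i + 1) * x := Nat.mul_le_mul_left _ h6
      omega
    have h4 : Nat.Coprime (r ^ c) (p ^ i + 1) := by
      apply Nat.Coprime.pow_left
      rw [Nat.Prime.coprime_iff_not_dvd hr]
      rcases Nat.eq_zero_or_pos i with rfl | hi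
      · rw [pow_zero]
        intro h5
        exact hr2 ((Nat.prime_dvd_prime_iff_eq hr Nat.prime_two).1 h5)
      · exact h i hi h3
    exact h4.dvd_of_dvd_mul_left (h2 ▸ hc)
  obtain ⟨i, -, hi⟩ := (Nat.dvd_prime_pow hp).1 (Dvd.intro _ hab)
  rcases le_total v i with hvi | hvi
  · have h2 : d' = p ^ (i - v) * d := by
      have h3 : d' * p ^ v = (p ^ (i - v) * d) * p ^ v := by
        rw [ha, hi, ← Nat.sub_add_cancel hvi, pow_add, Nat.add_sub_cancel]
        ring
      exact Nat.eq_of_mul_eq_mul_right (pow_pos hp.pos v) h3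
    have h3 := key d d' _ hd0 h1 h2 hs
    exact ⟨h3, h2 ▸ h3.mul_left _⟩
  · have h2 : d = p ^ (v - i) * d' := by
      have h3 : p ^ i * d = p ^ i * (p ^ (v - i) * d') := by
        rw [← mul_assoc, ← pow_add, Nat.add_sub_cancel' hvi, mul_comm (p ^ i), ← hi, ← ha, mul_comm]
      exact Nat.eq_of_mul_eq_mul_left (pow_pos hp.pos i) h3
    have h3 := key d' d _ hd0' h1' h2 (by rw [add_comm]; exact hs)
    exact ⟨h2 ▸ h3.mul_left _, h3⟩

end Cfsg.Agent.H956.OZ.R1
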